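import Cfsg.Agent.H117.EP.ModelPSL
import Cfsg.Agent.H419.EP.Soc
import Cfsg.Agent.H419.EP.Targets
import Cfsg.Agent.S2061
import Cfsg.Agent.S0813
import Cfsg.Agent.S0815
import Cfsg.Agent.S0242
import Cfsg.Agent.S0243
import Cfsg.Agent.S0265
import Cfsg.Agent.S0280
import Cfsg.Agent.MTwelveType.SylowModel
import Cfsg.Agent.StandardComponent.AltAut
import Cfsg.Agent.ClassicalGeometry.PSL2Basic

/-!
# S3499, task 5970 (helper957): the residual class of `SL_6(q)`

`row_of` : the row of `SL_6(F)` from the list S5800 (as a hypothesis), index bounds for `L₂(11)`, `A₇`, `L₃(4)`, `M₁₂`,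
`U₄(3)` and the own characteristic case `L₃(F)`.
-/

set_option autoImplicit false

namespace Cfsg.Agent.H957.EP

open Subgroup Cfsg.Agent.H284 Cfsg.Agent.H419.EP
open scoped MatrixGroups

/-! ### orders of automorphism groups -/

theorem card_aut_l2_11 :
    Nat.card (MulAut (Matrix.ProjectiveSpecialLinearGroup (Fin 2) (ZMod 11))) = 1320 := by
  have h11 : Fact (Nat.Prime 11) := ⟨by norm_num⟩
  rw [S0813.result 11 1 le_rfl (by rw [ZMod.card, pow_one]) 2 le_rfl (fun _ => by norm_num), if_pos rfl, one_mul,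
    one_mul, ClassicalGeometry.PSL2Basic.card_PGL2, ZMod.card]
  norm_num

theorem card_aut_a7 : Nat.card (MulAut (alternatingGroup (Fin 7))) ≤ 5040 := by
  obtain ⟨ψ, hψ⟩ := StandardComponent.AltAut.exists_autHom 7 le_rfl
  have hinj : Function.Injective ψ := by
    intro a b hab
    ext x : 1
    apply Subtype.ext
    rw [hψ, hψ, hab]
  have h1 := Nat.card_le_card_of_injective ψ hinj
  have h2 : Nat.card (Equiv.Perm (Fin 7)) = 5040 := by
    rw [Nat.card_perm, Nat.card_eq_fintype_card, Fintype.card_fin]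
    rfl
  rwa [h2] at h1

theorem card_aut_l3_4 {K : Type*} [Field K] [Fintype K] (hK : Fintype.card K = 4) :
    Nat.card (MulAut (Matrix.ProjectiveSpecialLinearGroup (Fin 3) K)) = 241920 := by
  have h2 : Fact (Nat.Prime 2) := ⟨Nat.prime_two⟩
  rw [S0813.result (F := K) 2 2 (by norm_num) (by rw [hK]; norm_num) 3 (by norm_num) (by norm_num), S0265.result]
  have h := S0242.result (F := K) hK 3 (by norm_num)
  rw [Fin.prod_univ_three] at h
  norm_num at h
  norm_num
  omega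

theorem card_aut_m12 {X : Type*} [Group X] (h : Cfsg.Spor.IsoM12 X) : Nat.card (MulAut X) ≤ 190080 := by
  obtain ⟨e⟩ := h
  rw [Nat.card_congr (MulAut.congr e).toEquiv]
  have h2 : Nat.card (Cfsg.Out Cfsg.Spor.M12) * Nat.card (Cfsg.Inn Cfsg.Spor.M12) = Nat.card (MulAut Cfsg.Spor.M12) :=
    (Subgroup.card_eq_card_quotient_mul_card_subgroup _).symm
  have h3 : Nat.card (Cfsg.Inn Cfsg.Spor.M12) ≤ 95040 := by
    rw [← MTwelveType.SylowModel.card_M12]
    have hf : Finite Cfsg.Spor.M12 := inferInstance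
    exact Nat.card_le_card_of_surjective _ (MulAut.conj : Cfsg.Spor.M12 →* MulAut Cfsg.Spor.M12).rangeRestrict_surjective
  rw [← h2, S2061.result]
  omega

theorem card_aut_u4_3 {K : Type*} [Field K] [Fintype K] (hK : Fintype.card K = 9) :
    Nat.card (MulAut (Cfsg.PSU 4 K 3)) = 26127360 := by
  have h3 : Fact (Nat.Prime 3) := ⟨Nat.prime_three⟩
  rw [S0815.result (F := K) 3 1 le_rfl (q := 3) rfl (by rw [hK]; norm_num) 4 (by norm_num) (by norm_num)]
  have h := S0280.result (F := K) (q := 3) (by rw [hK]; norm_num) 4 (by norm_num)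
  simp only [Finset.prod_range_succ, Finset.prod_range_zero] at h
  norm_num [Nat.even_iff] at h
  norm_num
  omega

/-! ### the order of `Q` -/

/-- two models of the same matrix group have the same order -/
theorem model_card {Q Q' : Type*} [Group Q] [Group Q'] {ι : Type} [Fintype ι] [DecidableEq ι] {F : Type*} [Field F]
    {S : Subgroup (GL ι F)} (m : Model Q S) (m' : Model Q' S) : Nat.card Q = Nat.card Q' := by
  have hk : m.π.ker = m'.π.ker := by
    ext s
    rw [MonoidHom.mem_ker, MonoidHom.mem_ker, m.ker, m'.ker]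
  have h1 := Subgroup.index_ker m.π
  have h2 := Subgroup.index_ker m'.π
  rw [MonoidHom.range_eq_top.2 m.surj, Subgroup.card_top] at h1
  rw [MonoidHom.range_eq_top.2 m'.surj, Subgroup.card_top] at h2
  rw [← h1, ← h2, hk]

/-- lower bound for `|PSL_n(q)|` -/
theorem psl_card_lower {F : Type*} [Field F] [Fintype F] {n : ℕ} (hn : 2 ≤ n) :
    Fintype.card F ^ (n * (n - 1)) * (Fintype.card F - 1) ^ (n - 1) ≤
      n * Nat.card (Matrix.ProjectiveSpecialLinearGroup (Fin n) F) := by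
  have hq : 2 ≤ Fintype.card F := Fintype.one_lt_card
  set q := Fintype.card F with hqd
  have h := S0243.result (F := F) (q := q) rfl n hn
  have h1 : (q ^ (n - 1) * (q - 1)) ^ n ≤ ∏ i : Fin n, (q ^ n - q ^ (i : ℕ)) := by
    rw [← Fin.prod_const]
    refine Finset.prod_le_prod' fun i _ => ?_
    have e : q ^ (n - 1) * (q - 1) = q ^ n - q ^ (n - 1) := by
      rw [Nat.mul_sub, mul_one, ← pow_succ, Nat.sub_add_cancel (by omega)]
    rw [e]
    apply Nat.sub_le_sub_left
    exact Nat.pow_le_pow_right (by omega) (by have := i.2; omega)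
  rw [← h] at h1
  have h2 : Nat.gcd n (q - 1) * ((q - 1) * Nat.card (Matrix.ProjectiveSpecialLinearGroup (Fin n) F)) ≤
      (q - 1) * (n * Nat.card (Matrix.ProjectiveSpecialLinearGroup (Fin n) F)) := by
    have h3 : Nat.gcd n (q - 1) ≤ n := Nat.gcd_le_left _ (by omega)
    calc _ ≤ n * ((q - 1) * Nat.card (Matrix.ProjectiveSpecialLinearGroup (Fin n) F)) := Nat.mul_le_mul_right _ h3
      _ = _ := by ring
  have h4 := h1.trans h2
  have e2 : (q ^ (n - 1) * (q - 1)) ^ n = (q - 1) * (q ^ (n * (n - 1)) * (q - 1) ^ (n - 1)) := by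
    rw [mul_pow, ← pow_mul, mul_comm (n - 1) n]
    conv_lhs => rw [← Nat.sub_add_cancel (show 1 ≤ n by omega)]
    rw [Nat.sub_add_cancel (show 1 ≤ n by omega), ← Nat.sub_add_cancel (show 1 ≤ n by omega), pow_succ (q - 1)]
    simp only [Nat.add_sub_cancel]
    ring
  rw [e2] at h4
  exact Nat.le_of_mul_le_mul_left h4 (by omega)

/-- index bound + socle: bound for `|Q|` -/
theorem card_le_of_soc {Q : Type*} [Group Q] [Finite Q] {A : Subgroup Q} {L : Type*} [Group L] [Finite L]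
    (hs : HasSoc A L) {B C : ℕ} (hB : A.index ≤ B) (hC : Nat.card (MulAut L) ≤ C) : Nat.card Q ≤ C * B := by
  rw [← A.card_mul_index]
  exact Nat.mul_le_mul ((HasSoc.card_le hs).trans hC) hB

/-- the list of S5800 for `H` -/
def List5800 {F : Type} [Field F] [Fintype F] (H : Subgroup (GL (Fin 6) F)) : Prop :=
    ∃ (P : Subgroup (Matrix.GeneralLinearGroup (Fin 6) F)) (p : ℕ), Cfsg.Geo.IsResidualCore H P ∧ p.Prime ∧ CharP F p ∧
    ((Nonempty ((P ⧸ (Cfsg.Geo.scalars (Fin 6) F).subgroupOf P) ≃* Matrix.ProjectiveSpecialLinearGroup (Fin 2) (ZMod 11)) ∧ Fintype.card F = p ∧ p ≠ 3 ∧ (p % 11 = 1 ∨ p % 11 = 3 ∨ p % 11 = 4 ∨ p % 11 = 5 ∨ p % 11 = 9)) ∨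
     (Nonempty ((P ⧸ (Cfsg.Geo.scalars (Fin 6) F).subgroupOf P) ≃* alternatingGroup (Fin 7)) ∧ ((Fintype.card F = p ∧ (p % 24 = 1 ∨ p % 24 = 7)) ∨ (Fintype.card F = p ^ 2 ∧ (p % 24 = 5 ∨ p % 24 = 11 ∨ p % 24 = 13 ∨ p % 24 = 19)))) ∨
     ((∃ (K : Type) (_ : Field K) (_ : Fintype K), Fintype.card K = 4 ∧ Nonempty ((P ⧸ (Cfsg.Geo.scalars (Fin 6) F).subgroupOf P) ≃* Matrix.ProjectiveSpecialLinearGroup (Fin 3) K)) ∧ Fintype.card F = p ∧ (p % 24 = 1 ∨ p % 24 = 19)) ∨
     (Cfsg.Spor.IsoM12 (P ⧸ (Cfsg.Geo.scalars (Fin 6) F).subgroupOf P) ∧ Fintype.card F = 3) ∨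
     ((∃ (K : Type) (_ : Field K) (_ : Fintype K), Fintype.card K = 9 ∧ Nonempty ((P ⧸ (Cfsg.Geo.scalars (Fin 6) F).subgroupOf P) ≃* Cfsg.PSU 4 K 3)) ∧ Fintype.card F = p ∧ (p % 12 = 1 ∨ p % 12 = 7)) ∨
     (Nonempty ((P ⧸ (Cfsg.Geo.scalars (Fin 6) F).subgroupOf P) ≃* Matrix.ProjectiveSpecialLinearGroup (Fin 3) F) ∧ Odd (Fintype.card F)))

/-- `|PSL_6(q)|` is large -/
theorem card_lower {F : Type} [Field F] [Fintype F] {Q : Type} [Group Q]
    (m : Model Q (Cfsg.Geo.specialLinear (Fin 6) F)) {q0 : ℕ} (hq : q0 ≤ Fintype.card F) :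
    q0 ^ 30 * (q0 - 1) ^ 5 ≤ 6 * Nat.card Q := by
  obtain ⟨m'⟩ := Cfsg.Agent.H117.EP.model_PSL (F := F) (n := 6) (by norm_num)
  rw [model_card m m']
  refine le_trans ?_ (psl_card_lower (F := F) (n := 6) (by norm_num))
  exact Nat.mul_le_mul (Nat.pow_le_pow_left hq 30) (Nat.pow_le_pow_left (by omega) 5)

/-- `|PSL_6(3)|` -/
theorem card_three {F : Type} [Field F] [Fintype F] {Q : Type} [Group Q]
    (m : Model Q (Cfsg.Geo.specialLinear (Fin 6) F)) (hq : Fintype.card F = 3) : Nat.card Q = 21032402889738240 := by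
  obtain ⟨m'⟩ := Cfsg.Agent.H117.EP.model_PSL (F := F) (n := 6) (by norm_num)
  rw [model_card m m']
  have h := S0243.result (F := F) hq 6 (by norm_num)
  rw [Fin.prod_univ_six, show Nat.gcd 6 (3 - 1) = 2 by decide] at h
  norm_num at h
  omega

/-- **The row of `SL_6(F)`** from the list and the index bounds. -/
theorem row_of {Q : Type} [Group Q] [Finite Q] {A : Subgroup Q} {F : Type} [Field F] [Fintype F]
    (m : Model Q (Cfsg.Geo.specialLinear (Fin 6) F)) (hl : List5800 (m.hat A))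
    (h1 : HasSoc A (Matrix.ProjectiveSpecialLinearGroup (Fin 2) (ZMod 11)) → A.index ≤ 10 ^ 15)
    (h2 : HasSoc A (alternatingGroup (Fin 7)) → A.index ≤ 10 ^ 15)
    (h3 : ∀ (K : Type) [Field K] [Fintype K], Fintype.card K = 4 →
      HasSoc A (Matrix.ProjectiveSpecialLinearGroup (Fin 3) K) → A.index ≤ 10 ^ 37)
    (h4 : HasSoc A Cfsg.Spor.M12 → A.index ≤ 110000000000)
    (h5 : ∀ (K : Type) [Field K] [Fintype K], Fintype.card K = 9 → HasSoc A (Cfsg.PSU 4 K 3) → A.index ≤ 10 ^ 21)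
    (hown : Odd (Fintype.card F) → HasSoc A (Matrix.ProjectiveSpecialLinearGroup (Fin 3) F) → False) : False := by
  obtain ⟨P, p, hc, hp, -, h | h | h | h | h | h⟩ := hl
  · obtain ⟨⟨e⟩, hq, hp3, hpm⟩ := h
    have hs := (hasSoc_of_core m hc).congr e
    have hq4 : 4 ≤ Fintype.card F := by
      have := hp.two_le
      rw [hq]
      by_contra hcon
      have h6 : p = 2 := by omega
      rw [h6] at hpm
      omega
    have h6 := card_lower m hq4
    have h7 := card_le_of_soc hs (h1 hs) card_aut_l2_11.le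
    norm_num at h6 h7
    omega
  · obtain ⟨⟨e⟩, hq⟩ := h
    have hs := (hasSoc_of_core m hc).congr e
    have hq4 : 4 ≤ Fintype.card F := by
      have := hp.two_le
      rcases hq with ⟨hq, hpm⟩ | ⟨hq, hpm⟩
      · rw [hq]
        have h8 : p ≠ 2 := by rintro rfl; omega
        have h9 : p ≠ 3 := by rintro rfl; omega
        omega
      · rw [hq]; nlinarith
    have h6 := card_lower m hq4
    have h7 := card_le_of_soc hs (h2 hs) card_aut_a7
    norm_num at h6 h7
    omega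
  · obtain ⟨⟨K, _, _, hK, ⟨e⟩⟩, hq, hpm⟩ := h
    have hs := (hasSoc_of_core m hc).congr e
    have hq4 : 19 ≤ Fintype.card F := by
      have := hp.two_le
      rw [hq]
      omega
    have h6 := card_lower m hq4
    have h7 := card_le_of_soc hs (h3 K hK hs) (card_aut_l3_4 hK).le
    norm_num at h6 h7
    omega
  · obtain ⟨⟨e⟩, hq⟩ := h
    have hs := (hasSoc_of_core m hc).congr e
    have h6 := card_three m hq
    have h7 := card_le_of_soc hs (h4 hs) (card_aut_m12 ⟨MulEquiv.refl _⟩)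
    norm_num at h6 h7
    omega
  · obtain ⟨⟨K, _, _, hK, ⟨e⟩⟩, hq, hpm⟩ := h
    have hs := (hasSoc_of_core m hc).congr e
    have hq4 : 7 ≤ Fintype.card F := by
      have := hp.two_le
      rw [hq]
      omega
    have h6 := card_lower m hq4
    have h7 := card_le_of_soc hs (h5 K hK hs) (card_aut_u4_3 hK).le
    norm_num at h6 h7
    omega
  · obtain ⟨⟨e⟩, hodd⟩ := h
    exact hown hodd ((hasSoc_of_core m hc).congr e)

/-- **The row of `SL_6(F)`**; `h5800 := fun H => S5800.result H`. -/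
theorem row {Q : Type} [Group Q] [Finite Q] {A : Subgroup Q} {Γ : Subgroup (MulAut Q)} (h : EPT A Γ) {F : Type}
    [Field F] [Fintype F] (m : Model Q (Cfsg.Geo.specialLinear (Fin 6) F))
    (hres : Cfsg.Geo.InLinearResidualClass (m.hat A))
    (h5800 : ∀ H : Subgroup (GL (Fin 6) F), Cfsg.Geo.IsMaximalIn (Cfsg.Geo.specialLinear (Fin 6) F) H →
      Cfsg.Geo.InLinearResidualClass H → List5800 H)
    (h1 : HasSoc A (Matrix.ProjectiveSpecialLinearGroup (Fin 2) (ZMod 11)) → A.index ≤ 10 ^ 15)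
    (h2 : HasSoc A (alternatingGroup (Fin 7)) → A.index ≤ 10 ^ 15)
    (h3 : ∀ (K : Type) [Field K] [Fintype K], Fintype.card K = 4 →
      HasSoc A (Matrix.ProjectiveSpecialLinearGroup (Fin 3) K) → A.index ≤ 10 ^ 37)
    (h4 : HasSoc A Cfsg.Spor.M12 → A.index ≤ 110000000000)
    (h5 : ∀ (K : Type) [Field K] [Fintype K], Fintype.card K = 9 → HasSoc A (Cfsg.PSU 4 K 3) → A.index ≤ 10 ^ 21)
    (hown : Odd (Fintype.card F) → HasSoc A (Matrix.ProjectiveSpecialLinearGroup (Fin 3) F) → False) : False :=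
  row_of m (h5800 _ (m.isMaximalIn h.max) hres) h1 h2 h3 h4 h5 hown

end Cfsg.Agent.H957.EP
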