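import Cfsg.Agent.H957.EP.RowSix
import Cfsg.Agent.H59.EP.UB
import Cfsg.Agent.H173.EP.LineBound
import Cfsg.Agent.S0249

/-!
# S3499, task 5970 (helper957): the residual class of `SL_6(q)`, `L₂(11)`, `A₇`, `L₃(4)` by UB1 and UB2

`row_ub` : left over as hypotheses are the list S5800, `TwoGen` (S3948), `M₁₂`, `U₄(3)` and the own characteristic.
General tools: `card_cases` (`|A| = |L| d`, `d ∣ |Out L|`), `index_ub` (UB1 + UB2 with the order given by its factorisation).
-/

set_option autoImplicit false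

namespace Cfsg.Agent.H957.EP

open Subgroup Cfsg.Agent.H284 Cfsg.Agent.H419.EP Cfsg.Agent.H59.EP
open scoped MatrixGroups

universe u

/-- `|A| = |L| d`, `d` a divisor of `|Aut L| / |L|` -/
theorem card_cases {Q : Type*} [Group Q] {A : Subgroup Q} {L : Type*} [Group L] [Finite L] (h : HasSoc A L) {k : ℕ}
    (hk : Nat.card (MulAut L) ∣ Nat.card L * k) : ∃ d, d ∣ k ∧ Nat.card A = Nat.card L * d := by
  obtain ⟨f, hf⟩ := h.exists_hom
  have h1 : Nat.card A ∣ Nat.card (MulAut L) := Subgroup.card_dvd_of_injective f hf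
  obtain ⟨d, hd⟩ := h.card_dvd
  refine ⟨d, ?_, hd⟩
  rw [hd] at h1
  exact Nat.dvd_of_mul_dvd_mul_left Nat.card_pos (h1.trans hk)

/-- **UB1 + UB2** for `HasSoc A L`, `L` simple, the order `c = |A|` by its factorisation `l` -/
theorem index_ub {Q : Type u} [Group Q] [Finite Q] (hs : IsSimpleGroup Q) {A : Subgroup Q} {Γ : Subgroup (MulAut Q)}
    (h : EPT A Γ) (hg : TwoGen.{u}) {L : Type*} [Group L] (hS : HasSoc A L) (hL : IsSimpleGroup L)
    (hLn : ¬ IsMulCommutative L) (l : List (ℕ × ℕ)) (c G n : ℕ) (h1 : ∀ x ∈ l, x.1.Prime ∧ 0 < x.2)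
    (h2 : (l.map Prod.fst).Nodup) (h5 : ∀ x ∈ l, 5 ≤ x.1 → x.2 = 1) (hc : Nat.card A = c)
    (hcl : (l.map fun x => x.1 ^ x.2).prod = c) (hG : (l.map fun x => gal x.1 x.2).sum ≤ G)
    (hn : 1 + (G * (c / 6) + c ^ 2 / 60) * (2 * (c / 6)) ≤ n) : A.index ≤ n := by
  have hab : ∀ K : Subgroup Q, K ≤ A → (∀ a ∈ A, ∀ k ∈ K, a * k * a⁻¹ ∈ K) → (∀ a ∈ K, ∀ b ∈ K, a * b = b * a) →
      K = ⊥ := fun K hK hn hc => HasSoc.no_abelian hS hL (fun hcomm => hLn ⟨⟨hcomm⟩⟩) hK hn hc
  have h6 := EPT.ncard_le_list h hg hab l h1 h2 h5 (hc.trans hcl.symm)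
  have h7 := Cfsg.Agent.H173.EP.ub1 hs h (by norm_num) fun _ hx => EPT.six_le h hab hx
  refine index_le_of (r := G * (c / 6) + c ^ 2 / 60) ?_ h7 ?_
  · refine h6.trans ?_
    rw [hc]
    exact Nat.add_le_add_right (Nat.mul_le_mul_right _ hG) _
  · rw [hc]
    exact hn

theorem gal_2_8 : gal 2 8 ≤ 420000 := by decide +kernel

theorem idx_660 {Q : Type u} [Group Q] [Finite Q] (hs : IsSimpleGroup Q) {A : Subgroup Q} {Γ : Subgroup (MulAut Q)}
    (h : EPT A Γ) (hg : TwoGen.{u}) {L : Type*} [Group L] [Finite L] (hS : HasSoc A L) (hL : IsSimpleGroup L)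
    (hLn : ¬ IsMulCommutative L) (h0 : Nat.card L = 660) (h1 : Nat.card (MulAut L) ∣ 1320) : A.index ≤ 10 ^ 15 := by
  obtain ⟨d, hd, hc⟩ := card_cases hS (k := 2) (by rw [h0]; exact h1)
  rw [h0] at hc
  rcases (Nat.dvd_prime Nat.prime_two).1 hd with rfl | rfl
  · exact index_ub hs h hg hS hL hLn [(2, 2), (3, 1), (5, 1), (11, 1)] 660 1000 _ (by simp; norm_num) (by decide) (by simp)
      hc (by norm_num) (by decide +kernel) (by norm_num)
  · exact index_ub hs h hg hS hL hLn [(2, 3), (3, 1), (5, 1), (11, 1)] 1320 1000 _ (by simp; norm_num) (by decide) (by simp)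
      hc (by norm_num) (by decide +kernel) (by norm_num)

theorem idx_2520 {Q : Type u} [Group Q] [Finite Q] (hs : IsSimpleGroup Q) {A : Subgroup Q} {Γ : Subgroup (MulAut Q)}
    (h : EPT A Γ) (hg : TwoGen.{u}) {L : Type*} [Group L] [Finite L] (hS : HasSoc A L) (hL : IsSimpleGroup L)
    (hLn : ¬ IsMulCommutative L) (h0 : Nat.card L = 2520) (h1 : Nat.card (MulAut L) ∣ 5040) : A.index ≤ 10 ^ 15 := by
  obtain ⟨d, hd, hc⟩ := card_cases hS (k := 2) (by rw [h0]; exact h1)
  rw [h0] at hc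
  rcases (Nat.dvd_prime Nat.prime_two).1 hd with rfl | rfl
  · exact index_ub hs h hg hS hL hLn [(2, 3), (3, 2), (5, 1), (7, 1)] 2520 1000 _ (by simp; norm_num) (by decide) (by simp)
      hc (by norm_num) (by decide +kernel) (by norm_num)
  · exact index_ub hs h hg hS hL hLn [(2, 4), (3, 2), (5, 1), (7, 1)] 5040 1000 _ (by simp; norm_num) (by decide) (by simp)
      hc (by norm_num) (by decide +kernel) (by norm_num)

theorem idx_20160 {Q : Type u} [Group Q] [Finite Q] (hs : IsSimpleGroup Q) {A : Subgroup Q} {Γ : Subgroup (MulAut Q)}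
    (h : EPT A Γ) (hg : TwoGen.{u}) {L : Type*} [Group L] [Finite L] (hS : HasSoc A L) (hL : IsSimpleGroup L)
    (hLn : ¬ IsMulCommutative L) (h0 : Nat.card L = 20160) (h1 : Nat.card (MulAut L) ∣ 241920) : A.index ≤ 10 ^ 16 := by
  obtain ⟨d, hd, hc⟩ := card_cases hS (k := 12) (by rw [h0]; exact h1)
  rw [h0] at hc
  have hd' : d ∈ Nat.divisors 12 := Nat.mem_divisors.2 ⟨hd, by norm_num⟩
  have hdl : Nat.divisors 12 = {1, 2, 3, 4, 6, 12} := by decide
  rw [hdl] at hd'
  simp only [Finset.mem_insert, Finset.mem_singleton] at hd'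
  rcases hd' with rfl | rfl | rfl | rfl | rfl | rfl
  · exact index_ub hs h hg hS hL hLn [(2, 6), (3, 2), (5, 1), (7, 1)] 20160 500000 _ (by simp; norm_num) (by decide) (by simp)
      hc (by norm_num) (by decide +kernel) (by norm_num)
  · exact index_ub hs h hg hS hL hLn [(2, 7), (3, 2), (5, 1), (7, 1)] 40320 500000 _ (by simp; norm_num) (by decide) (by simp)
      hc (by norm_num) (by decide +kernel) (by norm_num)
  · exact index_ub hs h hg hS hL hLn [(2, 6), (3, 3), (5, 1), (7, 1)] 60480 500000 _ (by simp; norm_num) (by decide) (by simp)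
      hc (by norm_num) (by decide +kernel) (by norm_num)
  · exact index_ub hs h hg hS hL hLn [(2, 8), (3, 2), (5, 1), (7, 1)] 80640 500000 _ (by simp; norm_num) (by decide) (by simp)
      hc (by norm_num) (by decide +kernel) (by norm_num)
  · exact index_ub hs h hg hS hL hLn [(2, 7), (3, 3), (5, 1), (7, 1)] 120960 500000 _ (by simp; norm_num) (by decide) (by simp)
      hc (by norm_num) (by decide +kernel) (by norm_num)
  · exact index_ub hs h hg hS hL hLn [(2, 8), (3, 3), (5, 1), (7, 1)] 241920 500000 _ (by simp; norm_num) (by decide) (by simp)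
      hc (by norm_num) (by decide +kernel) (by norm_num)

theorem ncomm_of_not_prime {S : Type*} [Group S] [Finite S] (hS : IsSimpleGroup S) (h : ¬ (Nat.card S).Prime) :
    ¬ IsMulCommutative S := by
  intro hc
  apply h
  let _ : CommGroup S := { (inferInstance : Group S) with mul_comm := hc.is_comm.comm }
  exact IsSimpleGroup.prime_card

theorem card_l2_11 : Nat.card (Matrix.ProjectiveSpecialLinearGroup (Fin 2) (ZMod 11)) = 660 := by
  have h11 : Fact (Nat.Prime 11) := ⟨by norm_num⟩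
  have h : Nat.gcd 2 (11 - 1) * ((11 - 1) * Nat.card (Matrix.ProjectiveSpecialLinearGroup (Fin 2) (ZMod 11))) =
      ∏ i : Fin 2, (11 ^ 2 - 11 ^ (i : ℕ)) := S0243.result (F := ZMod 11) (q := 11) (ZMod.card 11) 2 (by norm_num)
  rw [Fin.prod_univ_two, show Nat.gcd 2 (11 - 1) = 2 by decide] at h
  norm_num [-Nat.card_eq_fintype_card] at h
  omega

theorem card_a7 : Nat.card (alternatingGroup (Fin 7)) = 2520 := by
  rw [nat_card_alternatingGroup, Nat.card_eq_fintype_card, Fintype.card_fin]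
  rfl

theorem card_aut_a7_dvd : Nat.card (MulAut (alternatingGroup (Fin 7))) ∣ 5040 := by
  obtain ⟨ψ, hψ⟩ := StandardComponent.AltAut.exists_autHom 7 le_rfl
  have hinj : Function.Injective ψ := by
    intro a b hab
    ext x : 1
    apply Subtype.ext
    rw [hψ, hψ, hab]
  have h1 := Subgroup.card_dvd_of_injective ψ hinj
  have h2 : Nat.card (Equiv.Perm (Fin 7)) = 5040 := by
    rw [Nat.card_perm, Nat.card_eq_fintype_card, Fintype.card_fin]
    rfl
  rwa [h2] at h1

theorem card_l3_4 {K : Type*} [Field K] [Fintype K] (hK : Fintype.card K = 4) :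
    Nat.card (Matrix.ProjectiveSpecialLinearGroup (Fin 3) K) = 20160 := by
  have h := S0243.result (F := K) hK 3 (by norm_num)
  rw [Fin.prod_univ_three] at h
  norm_num at h
  omega

/-- **The row of `SL_6(F)`**: `h5800 := fun H => S5800.result H`, `hg := H59.EP.twoGen`; `M₁₂`, `U₄(3)` and the own
characteristic are hypotheses. -/
theorem row_ub {Q : Type} [Group Q] [Finite Q] (hs : IsSimpleGroup Q) {A : Subgroup Q} {Γ : Subgroup (MulAut Q)}
    (h : EPT A Γ) {F : Type} [Field F] [Fintype F] (m : Model Q (Cfsg.Geo.specialLinear (Fin 6) F))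
    (hres : Cfsg.Geo.InLinearResidualClass (m.hat A)) (hg : TwoGen.{0})
    (h5800 : ∀ H : Subgroup (GL (Fin 6) F), Cfsg.Geo.IsMaximalIn (Cfsg.Geo.specialLinear (Fin 6) F) H →
      Cfsg.Geo.InLinearResidualClass H → List5800 H)
    (h4 : HasSoc A Cfsg.Spor.M12 → A.index ≤ 110000000000)
    (h5 : ∀ (K : Type) [Field K] [Fintype K], Fintype.card K = 9 → HasSoc A (Cfsg.PSU 4 K 3) → A.index ≤ 10 ^ 21)
    (hown : Odd (Fintype.card F) → HasSoc A (Matrix.ProjectiveSpecialLinearGroup (Fin 3) F) → False) : False := by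
  refine row h m hres h5800 (fun hS => ?_) (fun hS => ?_) (fun K _ _ hK hS => ?_) h4 h5 hown
  · have h11 : Fact (Nat.Prime 11) := ⟨by norm_num⟩
    have hL : IsSimpleGroup (Matrix.ProjectiveSpecialLinearGroup (Fin 2) (ZMod 11)) :=
      Matrix.ProjectiveSpecialLinearGroup.rank_two_simple (by rw [Nat.card_zmod]; norm_num)
    exact idx_660 hs h hg hS hL (ncomm_of_not_prime hL (by rw [card_l2_11]; norm_num)) card_l2_11
      (dvd_of_eq card_aut_l2_11)
  · have hL : IsSimpleGroup (alternatingGroup (Fin 7)) := alternatingGroup.isSimpleGroup (by simp)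
    exact idx_2520 hs h hg hS hL (ncomm_of_not_prime hL (by rw [card_a7]; norm_num)) card_a7 card_aut_a7_dvd
  · have hL : IsSimpleGroup (Matrix.ProjectiveSpecialLinearGroup (Fin 3) K) := S0249.result 3 le_rfl
    exact (idx_20160 hs h hg hS hL (ncomm_of_not_prime hL (by rw [card_l3_4 hK]; norm_num)) (card_l3_4 hK)
      (dvd_of_eq (card_aut_l3_4 hK))).trans (by norm_num)

end Cfsg.Agent.H957.EP
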