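import Cfsg.Agent.H892.EP.TM
import Cfsg.Agent.H934.PQR.TorGen
import Cfsg.Agent.Nodes.RGDTwNode
import Cfsg.Agent.ChevalleyStructure.HMatDiagAll

/-!
# `HasTM` for the twisted groups `²E₆(q)`, `³D₄(q)` (S4929)

* `hasTM_of_nodes` : `HasTM` from a root group datum whose nodes are parametrised by `SL₂(F i)`;
* `tm_te6`, `tm_td4`.
-/

set_option autoImplicit false
set_option linter.unusedSectionVars false

namespace Cfsg.Agent.H957.EP

open CoxeterSystem Cfsg.Agent.ChevalleyStructure.CoxeterGeom Cfsg.Agent.Tits.Roots Cfsg.Agent.Tits.Core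
  Cfsg.Agent.Nodes.Reps Cfsg.Agent.Nodes.BNOf Cfsg.Agent.Omega.EH3.Kf.Lev
open Cfsg.Agent.Nodes.RGDFoldSL (wS hS coe_wS coe_hS lo_eq)
open Cfsg.Agent.ChevalleyStructure.SL2Hom (up lo)
open Cfsg.Agent.H934.PQR.TorGen
open Cfsg.Agent.H892.EP (HasTM)

universe u

section gen

theorem tau_up {F : Type*} [Field F] (c : Fˣ) (a : F) :
    tau c * up a * (tau c)⁻¹ = up ((c : F) ^ 2 * a) := by
  rw [mul_inv_eq_iff_eq_mul]
  apply Subtype.ext
  rw [Matrix.SpecialLinearGroup.coe_mul, Matrix.SpecialLinearGroup.coe_mul, coe_tau]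
  change !![(c : F), 0; 0, ((c⁻¹ : Fˣ) : F)] * !![1, a; 0, 1] = !![1, (c : F) ^ 2 * a; 0, 1] * !![(c : F), 0; 0, ((c⁻¹ : Fˣ) : F)]
  ext i j
  fin_cases i <;> fin_cases j <;> simp [Matrix.mul_apply, Fin.sum_univ_two]
  field_simp

variable {l : ℕ} {M : CoxeterMatrix (Fin l)} {A : Fin l → Fin l → ℤ} {h : IsCartan M A} {Y : Type u} [Group Y]
  [Finite Y] {r : ℕ} [hr : Fact r.Prime] {T : Subgroup Y} {n : Fin l → Y} {X : (Fin l → ℤ) → Subgroup Y}

/-- a prime dividing the order of an abelian group generated by the subgroups `B i` divides the order of some `B i` -/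
theorem exists_dvd {T : Subgroup Y} (hT : ∀ a ∈ T, ∀ b ∈ T, a * b = b * a) {ι : Type*} [Fintype ι] (B : ι → Subgroup Y)
    (hB : T = ⨆ i, B i) {p : ℕ} [hp : Fact p.Prime] (hd : p ∣ Nat.card T) : ∃ i, p ∣ Nat.card (B i) := by
  obtain ⟨t, ht⟩ := exists_prime_orderOf_dvd_card' (G := T) p hd
  have hle : ∀ i, B i ≤ T := fun i => by rw [hB]; exact le_iSup B i
  have hpow : ∀ x ∈ T, x ^ (∏ i, Nat.card (B i)) = 1 := by
    intro x hx
    have hx' : x ∈ ⨆ i, B i := by rwa [← hB]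
    have h1 : x ∈ T ∧ x ^ (∏ i, Nat.card (B i)) = 1 := by
      refine Subgroup.iSup_induction B (C := fun x => x ∈ T ∧ x ^ (∏ i, Nat.card (B i)) = 1) hx' ?_ ?_ ?_
      · intro i y hy
        refine ⟨hle i hy, ?_⟩
        obtain ⟨k, hk⟩ := Finset.dvd_prod_of_mem (fun i => Nat.card (B i)) (Finset.mem_univ i)
        rw [hk, pow_mul]
        have h2 : y ^ Nat.card (B i) = 1 := by
          have := pow_card_eq_one' (x := (⟨y, hy⟩ : B i))
          exact congrArg Subtype.val this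
        rw [h2, one_pow]
      · exact ⟨T.one_mem, one_pow _⟩
      · rintro y z ⟨hy, hy1⟩ ⟨hz, hz1⟩
        refine ⟨T.mul_mem hy hz, ?_⟩
        have hc : Commute y z := hT y hy z hz
        rw [hc.mul_pow, hy1, hz1, one_mul]
    exact h1.2
  have h2 : (t : Y) ^ (∏ i, Nat.card (B i)) = 1 := hpow t t.2
  have h3 : orderOf (t : Y) = p := by rw [Subgroup.orderOf_coe, ht]
  have h4 : p ∣ ∏ i, Nat.card (B i) := by
    rw [← h3]
    exact orderOf_dvd_of_pow_eq_one h2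
  obtain ⟨i, -, hi⟩ := (hp.out.prime.dvd_finsetProd_iff _).1 h4
  exact ⟨i, hi⟩

/-- **`HasTM` from nodes.** -/
theorem hasTM_of_nodes [Finite M.Group] (R : RGD M.toCoxeterSystem h r T n X)
    (hG : Nodes.RGDLib.G1 M.toCoxeterSystem h X = ⊤) (hT : ∀ a ∈ T, ∀ b ∈ T, a * b = b * a)
    {F : Fin l → Type*} [∀ i, Field (F i)] [∀ i, Finite (F i)]
    (Φ : ∀ i, Matrix.SpecialLinearGroup (Fin 2) (F i) →* Y) (N : ∀ i, Node T n X i (Φ i))
    (hC : r = 2 → CommGen M.toCoxeterSystem h X) {m : ℕ} (i0 : Fin l)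
    (hinj : Function.Injective fun a : F i0 => Φ i0 (up a)) (hm : ∀ p : ℕ, p.Prime → p ≠ 2 → p ∣ m → p ∣ Nat.card (F i0)ˣ) :
    HasTM r m Y := by
  classical
  have hTs : T = ⨆ i, AA (Φ i) := T_eq_iSup R hG Φ N
  have key : ∀ p : ℕ, p.Prime → p ≠ 2 → ∀ t : Y, orderOf t = p → ∀ i, t ∈ AA (Φ i) → n i * t ≠ t * n i := by
    intro p hp hp2 t ht i hti hc
    have h1 := (N i).inv hti
    rw [hc, mul_inv_cancel_right] at h1
    have h2 : t ^ 2 = 1 := by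
      rw [pow_two]
      nth_rewrite 1 [h1]
      exact inv_mul_cancel t
    have h3 := orderOf_dvd_of_pow_eq_one h2
    rw [ht] at h3
    exact hp2 ((Nat.prime_dvd_prime_iff_eq hp Nat.prime_two).1 h3)
  refine ⟨l, M, A, h, T, n, X, inferInstance, R, hG, hT, ?_, ?_, hC⟩
  · intro p hp hp2 hd
    have : Fact p.Prime := ⟨hp⟩
    obtain ⟨i, hi⟩ := exists_dvd hT (fun i => AA (Φ i)) hTs hd
    obtain ⟨t, ht⟩ := exists_prime_orderOf_dvd_card' (G := AA (Φ i)) p hi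
    have ht' : orderOf (t : Y) = p := by rw [Subgroup.orderOf_coe, ht]
    refine ⟨i, t, (N i).AA_le t.2, ⟨1, ?_⟩, key p hp hp2 t ht' i t.2⟩
    rw [pow_one, ← ht']
    exact pow_orderOf_eq_one _
  · intro p hp hp2 hd
    have : Fact p.Prime := ⟨hp⟩
    obtain ⟨c, hc⟩ := exists_prime_orderOf_dvd_card' (G := (F i0)ˣ) p (hm p hp hp2 hd)
    have h1 : Φ i0 (tau c) ≠ 1 := by
      intro h1
      have h2 : Φ i0 (up ((c : F i0) ^ 2 * 1)) = Φ i0 (up 1) := by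
        rw [← tau_up, map_mul, map_mul, map_inv, h1, one_mul, inv_one, mul_one]
      have h3 := hinj h2
      rw [mul_one] at h3
      have h4 : c ^ 2 = 1 := Units.ext h3
      have h5 := orderOf_dvd_of_pow_eq_one h4
      rw [hc] at h5
      exact hp2 ((Nat.prime_dvd_prime_iff_eq hp Nat.prime_two).1 h5)
    have h2 : Φ i0 (tau c) ^ p = 1 := by
      rw [← map_pow, ← map_pow, ← hc, pow_orderOf_eq_one, map_one, map_one]
    have h3 : orderOf (Φ i0 (tau c)) = p := orderOf_eq_prime h2 h1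
    have h4 : Φ i0 (tau c) ∈ T := (N i0).tor c
    rw [← h3, ← Subgroup.orderOf_mk _ h4]
    exact orderOf_dvd_natCard _

end gen

/-- `Fx φ k = K` -/
theorem card_Fx {K : Type*} [Field K] [Finite K] {φ : K →+* K} {k : ℕ} (hk : ∀ t : K, φ^[k] t = t) :
    Nat.card (Cfsg.Agent.Nodes.RGDFoldSL.Fx φ k)ˣ = Nat.card K - 1 := by
  rw [Nat.card_units]
  congr 1
  exact Nat.card_congr (Equiv.subtypeUnivEquiv fun t => Cfsg.Agent.Nodes.RGDFoldSL.mem_Fx.2 (hk t))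

/-- diagonal subgroups are abelian -/
theorem diag_comm {D : Cfsg.Lie.ChevalleyDatum} (hD : D ∈ [Cfsg.Lie.chevG2, Cfsg.Lie.chevB2, Cfsg.Lie.chevD4,
    Cfsg.Lie.chevF4, Cfsg.Lie.chevE6, Cfsg.Lie.chevE7, Cfsg.Lie.chevE8]) {K : Type*} [Field K] {s t : GL D.Idx K}
    (hs : s ∈ D.diagonalSubgroup K) (ht : t ∈ D.diagonalSubgroup K) : s * t = t * s := by
  obtain ⟨χ, h1⟩ := Cfsg.Agent.ChevalleyStructure.HMatDiagAll.diagonalSubgroup_le_torus hD hs
  obtain ⟨ψ, h2⟩ := Cfsg.Agent.ChevalleyStructure.HMatDiagAll.diagonalSubgroup_le_torus hD ht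
  apply Units.ext
  rw [Units.val_mul, Units.val_mul, h1, h2, Matrix.diagonal_mul_diagonal, Matrix.diagonal_mul_diagonal]
  congr 1
  funext i
  exact mul_comm _ _

open Cfsg.Lie Cfsg.Agent.ChevalleyStructure Cfsg.Agent.Nodes.RGDFoldSL Cfsg.Agent.Nodes.RGDFold
  Cfsg.Agent.ChevalleyStructure.TwistedU Cfsg.Agent.ChevalleyStructure.TwistedFix

section E6

open Cfsg.Agent.Nodes.RGDTwE6 Cfsg.Agent.Nodes.RGDTwNode.E6

variable {K : Type u} [Field K] {q : ℕ} {φ : K →+* K}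

theorem hf6 (i : Fin 4) : ∀ s ∈ Cfsg.Agent.Nodes.RGDTwNode.E6.rep i :: rest i, ∀ t : K,
    ((TwistedE6Sigma.eps s : ℤ) : K) * φ t = φ t := by
  intro s hs t
  rw [eps_one i s hs, Int.cast_one, one_mul]

variable [Fintype K] (hφ : ∀ x, φ x = x ^ q) (hqq : ∀ t : K, (t ^ q) ^ q = t)

/-- the homomorphism of the node `i` of `²E₆(q)` -/
noncomputable def Ps6 (i : Fin 4) : Matrix.SpecialLinearGroup (Fin 2) (Fx φ ((rest i).length + 1)) →* ↥(twistedE6 K q) :=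
  Phi (foldGrp hφ hqq) (nodeOK i) (hf6 i)

theorem node6 (i : Fin 4) : Node (T K q) (nn hφ) (X φ q) i (Ps6 hφ hqq i) where
  mem u := mem_X_iff (foldGrp hφ hqq) (nodeOK i) (hf6 i) u
  ns := Phi_wS (foldGrp hφ hqq) (nodeOK i) (hf6 i)
  tor c := by
    rw [tau_eq]
    exact Phi_hS (foldGrp hφ hqq) (nodeOK i) (hf6 i) c.ne_zero

end E6

/-- **`²E₆(q)`** -/
theorem tm_te6 {F : Type} [Field F] [Fintype F] {r : ℕ} [Fact r.Prime] [CharP F r] {q : ℕ} (hq : IsPrimePow q)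
    (hF : Fintype.card F = q ^ 2) : HasTM r (q ^ 2 - 1) (Lie.twistedE6 F q) := by
  obtain ⟨φ, hφ, hqq⟩ := ChevalleyStructure.TwE6Basic.exists_frob hq hF
  have : Finite (CoxeterMatrix.F₄).Group :=
    Cfsg.Agent.Nodes.RGDFold.finite_W (hp := Cfsg.Agent.Nodes.RGDTwE6.hp) CoxeterMatrix.F₄.toCoxeterSystem
      Cfsg.Agent.Nodes.RGDTwE6.isCartan Cfsg.Agent.Nodes.RGDTwE6.foldData
  have : Finite ↥(Lie.twistedE6 F q) := inferInstance
  refine hasTM_of_nodes (Cfsg.Agent.Nodes.RGDTwE6.rgd CoxeterMatrix.F₄.toCoxeterSystem hφ hqq r)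
    (Cfsg.Agent.Nodes.RGDTwE6.G1_eq_top _ hφ hqq) ?_ (fun i => Ps6 hφ hqq i) (fun i => node6 hφ hqq i) ?_ 2 ?_ ?_
  · intro a ha b hb
    exact Subtype.ext (diag_comm (by simp) ha.1 hb.1)
  · intro _
    exact Cfsg.Agent.H396.CommTab.commGen_E6 _ hφ hqq (p := r)
      (Cfsg.Agent.Omega.EH3.Kf.TwE6.exists_ne hφ hF hq.one_lt)
  · exact Phi_up_injective (Cfsg.Agent.Nodes.RGDTwE6.foldGrp hφ hqq) (Cfsg.Agent.Nodes.RGDTwNode.E6.nodeOK 2) (hf6 2)
  · intro p _ _ hd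
    have h2 : ∀ t : F, φ^[(Cfsg.Agent.Nodes.RGDTwNode.E6.rest 2).length + 1] t = t := by
      intro t
      show φ (φ t) = t
      rw [hφ, hφ, hqq]
    rw [card_Fx h2, Nat.card_eq_fintype_card, hF]
    exact hd

section D4

open Cfsg.Agent.Nodes.RGDTwD4 Cfsg.Agent.Nodes.RGDTwNode.D4

variable {K : Type u} [Field K] {q : ℕ} {φ : K →+* K}

theorem hf4 (i : Fin 2) : ∀ s ∈ Cfsg.Agent.Nodes.RGDTwNode.D4.rep i :: rest i, ∀ t : K,
    ((Cfsg.Agent.Nodes.RGDTwD4.eps s : ℤ) : K) * φ t = φ t := by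
  intro s hs t
  rw [eps_one i s hs, Int.cast_one, one_mul]

variable [Fintype K] (hφ : ∀ x, φ x = x ^ q) (hle : twistedD4 K q ≤ D4Fixed.fix φ)

/-- the homomorphism of the node `i` of `³D₄(q)` -/
noncomputable def Ps4 (i : Fin 2) : Matrix.SpecialLinearGroup (Fin 2) (Fx φ ((rest i).length + 1)) →* ↥(twistedD4 K q) :=
  Phi (foldGrp hφ hle) (nodeOK i) (hf4 i)

theorem node4 (i : Fin 2) : Node (T K q) (n hφ) (X φ q) i (Ps4 hφ hle i) where
  mem u := mem_X_iff (foldGrp hφ hle) (nodeOK i) (hf4 i) u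
  ns := Phi_wS (foldGrp hφ hle) (nodeOK i) (hf4 i)
  tor c := by
    rw [tau_eq]
    exact Phi_hS (foldGrp hφ hle) (nodeOK i) (hf4 i) c.ne_zero

end D4

/-- **`³D₄(q)`** -/
theorem tm_td4 {F : Type} [Field F] [Fintype F] {r : ℕ} [Fact r.Prime] [CharP F r] {q : ℕ} (hq : IsPrimePow q)
    (hF : Fintype.card F = q ^ 3) : HasTM r (q ^ 3 - 1) (Lie.twistedD4 F q) := by
  obtain ⟨φ, hφ⟩ := D4Fixed.exists_frob hq hF
  have hle := D4Fixed.twisted_le_fix hF hφ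
  have : Finite (CoxeterMatrix.G₂).Group :=
    Cfsg.Agent.Nodes.RGDFold.finite_W (hp := Cfsg.Agent.Nodes.RGDTwD4.hp) CoxeterMatrix.G₂.toCoxeterSystem
      Cfsg.Agent.Nodes.RGDTwD4.isCartan Cfsg.Agent.Nodes.RGDTwD4.foldData
  have : Finite ↥(Lie.twistedD4 F q) := inferInstance
  refine hasTM_of_nodes (Cfsg.Agent.Nodes.RGDTwD4.rgd CoxeterMatrix.G₂.toCoxeterSystem hF hφ r)
    (Cfsg.Agent.Nodes.RGDTwD4.G1_eq_top _ hF hφ) ?_ (fun i => Ps4 hφ hle i) (fun i => node4 hφ hle i) ?_ 1 ?_ ?_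
  · intro a ha b hb
    exact Subtype.ext (diag_comm (by simp) ha.1 hb.1)
  · intro _
    exact Cfsg.Agent.H396.CommTab.commGen_D4 hF hφ
  · exact Phi_up_injective (Cfsg.Agent.Nodes.RGDTwD4.foldGrp hφ hle) (Cfsg.Agent.Nodes.RGDTwNode.D4.nodeOK 1) (hf4 1)
  · intro p _ _ hd
    have h2 : ∀ t : F, φ^[(Cfsg.Agent.Nodes.RGDTwNode.D4.rest 1).length + 1] t = t := by
      intro t
      show φ (φ (φ t)) = t
      rw [hφ, hφ, hφ, ← pow_mul, ← pow_mul]
      have : q * (q * q) = q ^ 3 := by ring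
      rw [this, ← hF]
      exact FiniteField.pow_card t
    rw [card_Fx h2, Nat.card_eq_fintype_card, hF]
    exact hd

end Cfsg.Agent.H957.EP
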