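import Cfsg.Agent.H528.EP.UB3
import Cfsg.Agent.H270.EP.Tits
import Cfsg.Agent.H957.EP.RowSixUB

/-!
# S3499, own characteristic, counting: the Tits group (helper957)

`tits_ub` : `soc A = ²F₄(2)'` gives `|Q| ≤ |A| ^ 5`; `no_tits_own` : the group does not occur in dimension at least 13
in characteristic two.
-/

set_option autoImplicit false

namespace Cfsg.Agent.H957.EP

open Subgroup Cfsg.Agent.H284 Cfsg.Agent.H419.EP Cfsg.Agent.H59.EP Cfsg.Agent.H528.EP

universe u v

theorem card_tits {L : Type v} [Group L] (hT : Cfsg.Lie.IsoTits L) : Nat.card L = 17971200 := by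
  obtain ⟨e⟩ := hT
  rw [Nat.card_congr e.toEquiv, S1074.result.2.2.2]
  norm_num

theorem simple_congr {L T : Type*} [Group L] [Group T] (h : IsSimpleGroup T) (e : L ≃* T) : IsSimpleGroup L :=
  e.isSimpleGroup

theorem simple_tits {L : Type v} [Group L] (hT : Cfsg.Lie.IsoTits L) : IsSimpleGroup L := by
  obtain ⟨e⟩ := hT
  exact simple_congr Cfsg.Agent.S1074.result.2.1 e

theorem ncomm_tits {L : Type v} [Group L] (hT : Cfsg.Lie.IsoTits L) : ¬ IsMulCommutative L := by
  intro hc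
  obtain ⟨e⟩ := hT
  refine S1074.result.2.2.1 ⟨⟨fun a b => ?_⟩⟩
  apply e.symm.injective
  rw [map_mul, map_mul]
  exact hc.is_comm.comm _ _

theorem card_aut_tits {L : Type v} [Group L] [Finite L] (hT : Cfsg.Lie.IsoTits L) :
    Nat.card (MulAut L) ∣ 35942400 := by
  have hs := simple_tits hT
  rw [Cfsg.Agent.H270.EP.card_aut (ncomm_tits hT) (MulEquiv.refl L), card_tits hT]
  have h1 := H867.TitsOut.card_out_le hT
  have h2 : 0 < Nat.card (Cfsg.Out L) := Nat.card_pos
  have h3 : Nat.card (Cfsg.Out L) ∣ 2 := by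
    interval_cases Nat.card (Cfsg.Out L) <;> norm_num
  exact Nat.mul_dvd_mul_right h3 17971200

theorem gal_tits : gal 2 12 + (gal 3 3 + (gal 5 2 + gal 13 1)) ≤ 500000000000 := by decide +kernel

theorem galSum_tits : galSum 35942400 ≤ 500000000000 := by
  have h := (galSum_list [(2, 12), (3, 3), (5, 2), (13, 1)] (by simp; norm_num) (by decide)).1
  have h1 : (([(2, 12), (3, 3), (5, 2), (13, 1)] : List (ℕ × ℕ)).map fun x => x.1 ^ x.2).prod = 35942400 := by
    norm_num
  rw [h1] at h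
  rw [h]
  exact gal_tits

/-- **`soc A = ²F₄(2)'`: `|Q| ≤ |A| ^ 5`** -/
theorem tits_ub {Q : Type u} [Group Q] [Finite Q] (hs : IsSimpleGroup Q) {A : Subgroup Q} {Γ : Subgroup (MulAut Q)}
    (h : EPT A Γ) (hg : TwoGen.{u}) {L : Type v} [Group L] [Finite L] (hT : Cfsg.Lie.IsoTits L) (hS : HasSoc A L) :
    Nat.card Q ≤ Nat.card A ^ 5 := by
  obtain ⟨f, hf⟩ := hS.exists_hom
  have hdvd : Nat.card A ∣ 35942400 := (Subgroup.card_dvd_of_injective f hf).trans (card_aut_tits hT)
  have hab : ∀ K : Subgroup Q, K ≤ A → (∀ a ∈ A, ∀ k ∈ K, a * k * a⁻¹ ∈ K) → (∀ a ∈ K, ∀ b ∈ K, a * b = b * a) →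
      K = ⊥ := fun K hK hn hc => HasSoc.no_abelian hS (simple_tits hT) (fun hcomm => ncomm_tits hT ⟨⟨hcomm⟩⟩) hK hn hc
  have h1 := Cfsg.Agent.H528.EP.EPT.card_le_gen hs h hg hab (by norm_num) hdvd (by norm_num) galSum_tits
  refine h1.trans ?_
  have h2 : 17971200 ≤ Nat.card A := by
    rw [← card_tits hT]
    exact Nat.le_of_dvd Nat.card_pos hS.card_dvd
  refine le_trans ?_ (Nat.pow_le_pow_left h2 5)
  unfold ubQ
  norm_num

/-- **The Tits group in characteristic two, dimension at least 13: does not occur** -/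
theorem own_tits {Q : Type} [Group Q] [Finite Q] {A : Subgroup Q} {Γ : Subgroup (MulAut Q)} {ι : Type} [Fintype ι]
    [DecidableEq ι] {F : Type} [Field F] [Fintype F] {S P : Subgroup (GL ι F)} (b : Big A Γ S P) (hg : TwoGen.{0})
    (hc : ringChar F = 2) (hT : Cfsg.Lie.IsoTits (socle P)) : False := by
  have hfin := Cfsg.Agent.H270.EP.finite_socle P
  exact Cfsg.Agent.H270.EP.own_tits b (by norm_num) (tits_ub b.simple b.ept hg hT b.hasSoc) hc hT

end Cfsg.Agent.H957.EP
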