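import Cfsg.Agent.H957.EP.RowSixUB
import Cfsg.Agent.H16.EP.MTwelve
import Cfsg.Agent.H396.EP.OwnThree

/-!
# S3499, row S5800 (`SL_6(q)`, residual class): everything except the bound for `U₄(3)` (helper957)
-/

set_option autoImplicit false

namespace Cfsg.Agent.H957.EP

open Subgroup Cfsg.Agent.H284 Cfsg.Agent.H419.EP Cfsg.Agent.H59.EP

/-- **Row S5800**, `L₂(11)`, `A₇`, `L₃(4)`, `M₁₂`, `L₃(q)` dead; hypothesis: `A.index ≤ 10 ^ 21` for `U₄(3)` -/
theorem row_sl_six {Q : Type} [Group Q] [Finite Q] (hs : IsSimpleGroup Q) {A : Subgroup Q} {Γ : Subgroup (MulAut Q)}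
    (h : EPT A Γ) {F : Type} [Field F] [Fintype F] (m : Model Q (Cfsg.Geo.specialLinear (Fin 6) F))
    (hres : Cfsg.Geo.InLinearResidualClass (m.hat A)) (hg : TwoGen.{0})
    (h5800 : ∀ H : Subgroup (GL (Fin 6) F), Cfsg.Geo.IsMaximalIn (Cfsg.Geo.specialLinear (Fin 6) F) H →
      Cfsg.Geo.InLinearResidualClass H → List5800 H)
    (h5 : ∀ (K : Type) [Field K] [Fintype K], Fintype.card K = 9 → HasSoc A (Cfsg.PSU 4 K 3) → A.index ≤ 10 ^ 21) :
    False :=
  row_ub hs h m hres hg h5800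
    (fun hS => (Cfsg.Agent.H16.EP.no_m12 h m (h5800 _ (m.isMaximalIn h.max) hres) hS).elim) h5
    (fun hodd hS => Cfsg.Agent.H396.EP.l3_six_own hg hs h m hodd hS)

end Cfsg.Agent.H957.EP
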