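import Cfsg.Agent.H957.EP.RowSLSix
import Cfsg.Agent.H52.EP.U43Fin
import Cfsg.Agent.H59.EP.UBFin

/-!
# S3499, row S5800 (`SL₆(q)`), complete: the only hypothesis is `S5800.result` for the field (helper957)
-/

set_option autoImplicit false

namespace Cfsg.Agent.H957.EP

open Subgroup Matrix Cfsg.Agent.H284 Cfsg.Agent.H419.EP Cfsg.Agent.H59.EP

/-- **Row S5800.** -/
theorem row_sl_six_fin {Q : Type} [Group Q] [Finite Q] (hs : IsSimpleGroup Q) {A : Subgroup Q}
    {Γ : Subgroup (MulAut Q)} (h : EPT A Γ) {F : Type} [Field F] [Fintype F]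
    (m : Model Q (Cfsg.Geo.specialLinear (Fin 6) F)) (hres : Cfsg.Geo.InLinearResidualClass (m.hat A))
    (h5800 : ∀ H : Subgroup (GL (Fin 6) F), Cfsg.Geo.IsMaximalIn (Cfsg.Geo.specialLinear (Fin 6) F) H →
      Cfsg.Geo.InLinearResidualClass H → List5800 H) : False :=
  row_sl_six hs h m hres Cfsg.Agent.H59.EP.twoGen
    h5800
    (fun _ _ _ hK hS => (Cfsg.Agent.H52.EP.u43_index hs h hK hS).trans (by norm_num))

end Cfsg.Agent.H957.EP
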